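import Groth.Agent.ResBdyLib.Good
import Groth.Agent.GenFlatStrat.FGExtend
import Groth.Agent.CohCmpLib.Eps
import Groth.Agent.QCohLib.AffineFinite
import Groth.Agent.PerfLib.Strict
import Groth.Prelude.Def_PerfAux

/-!
# The criterion for the resolution property by the boundary ideals of an affine cover
-/

set_option autoImplicit false
set_option maxRecDepth 8000
set_option backward.isDefEq.respectTransparency false
set_option backward.isDefEq.respectTransparency.types false
set_option linter.all false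

noncomputable section

universe u

open CategoryTheory CategoryTheory.Limits AlgebraicGeometry TopologicalSpace Opposite
open ProjFormLib (ger res ger_res ger_smul ger_map exists_ger section_ext IsFrame exists_frame)

namespace ResBdyLib

variable {X : Scheme.{u}}

/-- Charts for a cosection with image an ideal. -/
theorem exists_chart {E : X.Modules} (hE : FlatMod.IsFinLocFree E) (J : X.IdealSheafData)
    (π : E ⟶ ClSub.idealMod J) [Epi π] (U : X.Opens) (hsupp : (J.support : Set X) = (U : Set X)ᶜ) (x : X) :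
    ∃ c : Chart (π ≫ ClSub.idealModι J) U, x ∈ c.V := by
  classical
  let σ : E ⟶ Coh.structureModule X := π ≫ ClSub.idealModι J
  obtain ⟨U₀, n, e₀, hx, he₀⟩ := exists_frame hE x
  obtain ⟨V, hV, hxV, hVU⟩ := exists_isAffineOpen_mem_and_subset hx
  let e : Fin n → Γ(E, V) := fun i => res E hVU (e₀ i)
  have he : IsFrame E e := he₀.res hVU
  have hmem : ∀ y ∈ V, y ∈ U ↔ y ∉ X.zeroLocus (U := V) (J.ideal ⟨V, hV⟩ : Set Γ(X, V)) := fun y hy => by
    have h1 : y ∈ J.support ↔ y ∈ X.zeroLocus (U := V) (J.ideal ⟨V, hV⟩ : Set Γ(X, V)) :=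
      Scheme.IdealSheafData.mem_support_iff_of_mem (U := ⟨V, hV⟩) hy
    have h2 : y ∈ J.support ↔ y ∉ U := by
      change y ∈ (J.support : Set X) ↔ _
      rw [hsupp]
      rfl
    rw [← h1, h2, not_not]
  have hval : ∀ i, val σ (e i) ∈ J.ideal ⟨V, hV⟩ := fun i =>
    GenFlatStrat.idealModι_mem J ⟨V, hV⟩ (π.app V (e i))
  refine ⟨⟨V, hV, n, e, he, fun i y hy => ?_, fun y hy => ?_⟩, hxV⟩
  · exact (hmem y (X.basicOpen_le _ hy)).mpr fun h => ((Scheme.mem_zeroLocus_iff _ _ y).mp h _ (hval i)) hy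
  · have h3 := (hmem y hy.2).mp hy.1
    rw [Scheme.mem_zeroLocus_iff] at h3
    push_neg at h3
    obtain ⟨f, hf, hfy⟩ := h3
    obtain ⟨s, hs⟩ := GenFlatStrat.exists_idealMod_section J ⟨V, hV⟩ f hf
    obtain ⟨W, hW, hyW, a, ha⟩ := CohCmpLib.exists_local_lift π s hy.2
    obtain ⟨cf, hcf⟩ := (he y hy.2).2 (ger E y hyW a)
    choose O hO r hr using fun i => X.presheaf.exists_germ_eq (x := y) (cf i)
    obtain ⟨O₀, hyO₀, hle⟩ := CohCmpLib.exists_nhd_le O hO
    let W₁ : X.Opens := O₀ ⊓ W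
    let r' : Fin n → Γ(X, W₁) := fun i => X.presheaf.map (homOfLE (inf_le_left.trans (hle i))).op (r i)
    let a₁ : Γ(E, W₁) := ∑ i, r' i • res E ((inf_le_right : W₁ ≤ W).trans hW) (e i)
    have hy₁ : y ∈ W₁ := ⟨hyO₀, hyW⟩
    have ha₁ : ger E y hy₁ a₁ = ger E y hy₁ (res E (inf_le_right : W₁ ≤ W) a) := by
      rw [CohCmpLib.ger_sum, ger_res, ← hcf, Fintype.linearCombination_apply]
      refine Finset.sum_congr rfl fun i _ => ?_
      rw [ger_smul, ger_res, TopCat.Presheaf.germ_res_apply, hr]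
    obtain ⟨W₂, hyW₂, i₁, i₂, hW₂⟩ := E.presheaf.germ_eq y hy₁ hy₁ _ _ ha₁
    obtain rfl : i₁ = i₂ := Subsingleton.elim _ _
    let ρ : Γ(X, V) → Γ(X, W₂) := fun t => X.presheaf.map (homOfLE (i₁.le.trans (inf_le_right.trans hW))).op t
    let φ : Γ(E, W₂) →+ Γ(X, W₂) := (σ.app W₂).hom
    have hφ : ∀ (c : Γ(X, W₂)) (b : Γ(E, W₂)), φ (c • b) = c * φ b := fun c b => QCohLib.app_smul σ W₂ c b
    have hW₂' : φ (res E i₁.le a₁) = φ (res E i₁.le (res E inf_le_right a)) := congrArg φ hW₂
    have hR : φ (res E i₁.le (res E inf_le_right a)) = ρ f := by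
      change σ.app W₂ (res E i₁.le (res E inf_le_right a)) = _
      rw [show σ.app W₂ (res E i₁.le (res E inf_le_right a)) =
          res (Coh.structureModule X) i₁.le (res (Coh.structureModule X) inf_le_right (σ.app W a)) from
        (QCohLib.app_map σ (homOfLE i₁.le) (res E inf_le_right a)).trans
          (congrArg (res (Coh.structureModule X) i₁.le) (QCohLib.app_map σ (homOfLE inf_le_right) a))]
      have h6 : σ.app W a = res (Coh.structureModule X) hW ((ClSub.idealModι J).app V s) :=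
        (congrArg ((ClSub.idealModι J).app W) ha).trans (QCohLib.app_map (ClSub.idealModι J) (homOfLE hW) s)
      rw [h6, ← hs]
      exact (congrArg (res (Coh.structureModule X) i₁.le) (AmpleLib.res_res (M := Coh.structureModule X) _ _ _)).trans
        (AmpleLib.res_res (M := Coh.structureModule X) _ _ _)
    have hL : φ (res E i₁.le a₁) =
        ∑ i, X.presheaf.map (homOfLE i₁.le).op (r' i) * ρ (val σ (e i)) := by
      rw [show res E i₁.le a₁ = ∑ i, X.presheaf.map (homOfLE i₁.le).op (r' i) •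
          res E (i₁.le.trans (inf_le_right.trans hW)) (e i) from
        (map_sum _ _ _).trans (Finset.sum_congr rfl fun i _ => (Scheme.Modules.map_smul _ _ _ _).trans
          (congrArg (X.presheaf.map (homOfLE i₁.le).op (r' i) • ·) (AmpleLib.res_res (M := E) _ _ _))), map_sum]
      refine Finset.sum_congr rfl fun i _ => ?_
      rw [hφ]
      exact congrArg (_ * ·) (val_res σ _ (e i)).symm
    have hsum : X.presheaf.germ V y hy.2 f = ∑ i, cf i * X.presheaf.germ V y hy.2 (val σ (e i)) := by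
      have h7 := congrArg (X.presheaf.germ W₂ y hyW₂) (hR.symm.trans (hW₂'.symm.trans hL))
      simp only [ρ, r', map_sum, map_mul, TopCat.Presheaf.germ_res_apply, hr] at h7
      exact h7.trans (Finset.sum_congr rfl fun i _ => congrArg (fun t => t * X.presheaf.germ V y hy.2 (val σ (e i)))
        ((TopCat.Presheaf.germ_res_apply _ _ _ _ _).trans (hr i)))
    by_contra hno
    push_neg at hno
    have h5 : IsUnit (X.presheaf.germ V y hy.2 f) := (X.mem_basicOpen _ y hy.2).mp hfy
    rw [hsum] at h5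
    refine (IsLocalRing.mem_maximalIdeal _).mp (Ideal.sum_mem _ fun i _ => Ideal.mul_mem_left _ _ ?_) h5
    exact (IsLocalRing.mem_maximalIdeal _).mpr fun hu => hno i ((X.mem_basicOpen _ y hy.2).mpr hu)

/-- The resolution property from finite locally free covers of the boundary ideals of an affine cover. -/
theorem hasResolutionProperty_of_cover {ι : Type*} [Finite ι] (U : ι → X.Opens) (hUaff : ∀ j, IsAffineOpen (U j))
    (hcov : ⨆ j, U j = ⊤) (I : ι → X.IdealSheafData) (hIsupp : ∀ j, ((I j).support : Set X) = (U j : Set X)ᶜ)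
    (h : ∀ j, ∃ (E : X.Modules) (π : E ⟶ ClSub.idealMod (I j)), FlatMod.IsFinLocFree E ∧ Epi π) :
    PerfAux.HasResolutionProperty X := by
  classical
  haveI : Fintype ι := Fintype.ofFinite ι
  choose E π hE hπ using h
  have hcov' : ∀ y : X, ∃ j, y ∈ U j := fun y => Opens.mem_iSup.mp (hcov.ge (Set.mem_univ y : y ∈ (⊤ : X.Opens)))
  have hch : ∀ j x, ∃ c : Chart (π j ≫ ClSub.idealModι (I j)) (U j), x ∈ c.V := fun j x =>
    haveI := hπ j
    exists_chart (hE j) (I j) (π j) (U j) (hIsupp j) x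
  haveI : CompactSpace X := ⟨by
    have h1 : (Set.univ : Set X) = ⋃ j, (U j : Set X) := by
      ext y
      exact ⟨fun _ => Set.mem_iUnion.mpr (hcov' y), fun _ => trivial⟩
    rw [h1]
    exact isCompact_iUnion fun j => (hUaff j).isCompact⟩
  haveI : QuasiSeparatedSpace X := by
    refine Scheme.quasiSeparatedSpace_of_isOpenCover U hcov hUaff fun j k => ?_
    choose c hc using hch j
    obtain ⟨S, hS⟩ := (hUaff k).isCompact.elim_finite_subcover (fun x => ((c x).V : Set X))
      (fun x => (c x).V.2) fun x _ => Set.mem_iUnion.mpr ⟨x, hc x⟩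
    choose W hW hxW hWV using fun y : (U k : Set X) => show ∃ (W : X.Opens), IsAffineOpen W ∧ y.1 ∈ W ∧
        ∃ x ∈ S, W ≤ U k ⊓ (c x).V from by
      obtain ⟨x, hx, hyx⟩ := Set.mem_iUnion₂.mp (hS y.2)
      obtain ⟨W, hW, hyW, hle⟩ := exists_isAffineOpen_mem_and_subset (U := U k ⊓ (c x).V) (x := y.1) ⟨y.2, hyx⟩
      exact ⟨W, hW, hyW, x, hx, hle⟩
    obtain ⟨T, hT⟩ := (hUaff k).isCompact.elim_finite_subcover (fun y => (W y : Set X)) (fun y => (W y).2)
      fun y hy => Set.mem_iUnion.mpr ⟨⟨y, hy⟩, hxW ⟨y, hy⟩⟩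
    have h2 : (U j : Set X) ∩ (U k : Set X) = ⋃ y ∈ T, (U j : Set X) ∩ (W y : Set X) := by
      rw [← Set.inter_iUnion₂]
      refine Set.Subset.antisymm (Set.inter_subset_inter_right _ hT) (Set.inter_subset_inter_right _ ?_)
      intro z hz
      obtain ⟨y, -, hzy⟩ := Set.mem_iUnion₂.mp hz
      obtain ⟨x, -, hle⟩ := hWV y
      exact (hle hzy).1
    rw [h2]
    refine T.finite_toSet.isCompact_biUnion fun y _ => ?_
    obtain ⟨x, -, hle⟩ := hWV y
    have hWc : W y ≤ (c x).V := hle.trans inf_le_right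
    have h3 : (U j : Set X) ∩ (W y : Set X) =
        ⋃ i, (X.basicOpen (X.presheaf.map (homOfLE hWc).op (val (π j ≫ ClSub.idealModι (I j)) ((c x).e i))) : Set X) := by
      ext z
      simp only [Set.mem_iUnion, Scheme.basicOpen_res, Opens.coe_inf, Set.mem_inter_iff]
      refine ⟨fun hz => ?_, fun ⟨i, hzW, hzi⟩ => ⟨(c x).basic_le i hzi, hzW⟩⟩
      obtain ⟨i, hi⟩ := (c x).le_basic z ⟨hz.1, hWc hz.2⟩
      exact ⟨i, hz.2, hi⟩
    rw [h3]
    exact isCompact_iUnion fun i => ((hW y).basicOpen _).isCompact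
  intro M hQ hFT
  haveI := hQ
  choose R hR using fun j => (QCohLib.finite_of_isFT hFT (hUaff j)).fg_top
  let A := Σ j : ι, R j
  choose Q β hQl hβ using fun a : A => good (hE a.1) (hch a.1) M (a.2.1 : Γ(M, U a.1))
  obtain ⟨F, φ, hF, hfac⟩ : ∃ (F : X.Modules) (φ : F ⟶ M), FlatMod.IsFinLocFree F ∧
      ∀ {M' : X.Modules} (q : M ⟶ M'), φ ≫ q = 0 → ∀ a : A, β a ≫ q = 0 := by
    suffices h : ∀ s : Finset A, ∃ (F : X.Modules) (φ : F ⟶ M), FlatMod.IsFinLocFree F ∧
        ∀ {M' : X.Modules} (q : M ⟶ M'), φ ≫ q = 0 → ∀ a ∈ s, β a ≫ q = 0 by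
      obtain ⟨F, φ, hF, h⟩ := h Finset.univ
      exact ⟨F, φ, hF, fun q hq a => h q hq a (Finset.mem_univ a)⟩
    intro s
    induction s using Finset.induction with
    | empty =>
      exact ⟨Coh.structureModule X, 0,
        AmpleDevLib.isFinLocFree_of_isInvertible CurvLib.isInvertible_structureModule, fun _ _ a ha => by simp at ha⟩
    | @insert a s ha ih =>
      obtain ⟨F, φ, hF, h⟩ := ih
      refine ⟨Q a ⊞ F, biprod.desc (β a) φ, Groth.Agent.PerfLib.isFinLocFree_biprod (hQl a) hF, fun q hq c hc => ?_⟩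
      rcases Finset.mem_insert.mp hc with rfl | hc
      · simpa using congrArg (biprod.inl ≫ ·) hq
      · exact h q (by simpa using congrArg (biprod.inr ≫ ·) hq) c hc
  refine ⟨F, φ, hF, Preadditive.epi_of_cancel_zero _ fun {M' : X.Modules} (q : M ⟶ M') hq => ?_⟩
  have hV : ∀ (j : ι) (w : Γ(M, U j)), q.app _ w = 0 := by
    intro j w
    have hw : w ∈ Submodule.span Γ(X, U j) (R j : Set Γ(M, U j)) := by rw [hR j]; trivial
    induction hw using Submodule.span_induction with
    | mem a ha => exact hβ ⟨j, a, ha⟩ q (hfac q hq _)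
    | zero => exact map_zero _
    | add a c _ _ h1 h2 => rw [map_add, h1, h2, add_zero]
    | smul r a _ h1 => rw [QCohLib.app_smul, h1, smul_zero]
  apply Scheme.Modules.hom_ext
  intro W
  refine ConcreteCategory.hom_ext _ _ fun w => section_ext (M := M') _ _ fun y hy => ?_
  obtain ⟨j, hyj⟩ := hcov' y
  obtain ⟨g, hgW, hyg⟩ := (hUaff j).exists_basicOpen_le (V := W) ⟨y, hy⟩ hyj
  obtain ⟨n, k, hk⟩ := (QCohLib.localizingAt_of_qcqs M (hUaff j).isCompact (hUaff j).isQuasiSeparated g).exists_extend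
    (res M hgW w)
  have h3 := congrArg (q.app (X.basicOpen g)) hk
  rw [QCohLib.app_map, hV j, map_zero, QCohLib.app_smul] at h3
  have hu : IsUnit (X.presheaf.map (homOfLE (X.basicOpen_le g)).op g) := RingedSpace.isUnit_res_basicOpen _ g
  have h4 : q.app (X.basicOpen g) (res M hgW w) = 0 := (hu.pow n).smul_eq_zero.mp h3.symm
  change ger M' y hy (q.app W w) = ger M' y hy 0
  rw [CohCmpLib.ger_zero, ← ger_res M' hgW y hyg (q.app W w),
    show res M' hgW (q.app W w) = _ from (QCohLib.app_map q _ _).symm, h4, CohCmpLib.ger_zero]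

end ResBdyLib
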