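import Groth.Agent.ResBdyLib.Mul
import Groth.Agent.QCohLib.Gen
import Groth.Agent.AmpleDevLib.Devissage
import Groth.Agent.CurvLib.Line
import Mathlib.AlgebraicGeometry.Morphisms.QuasiSeparated

/-!
# A section over the locus of a cosection comes from a finite locally free module
-/

set_option autoImplicit false
set_option maxRecDepth 8000
set_option backward.isDefEq.respectTransparency false
set_option backward.isDefEq.respectTransparency.types false
set_option linter.all false

noncomputable section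

universe u

open CategoryTheory CategoryTheory.Limits AlgebraicGeometry TopologicalSpace Opposite
open ProjFormLib (ger res ger_res ger_smul ger_map exists_ger section_ext IsFrame exists_frame)
open CohCmpLib (homMod evMod curryMod)
open KFlatLib (tens shTm)

namespace ResBdyLib

variable {X : Scheme.{u}}

theorem isFinLocFree_tens {A B : X.Modules} (hA : FlatMod.IsFinLocFree A) (hB : FlatMod.IsFinLocFree B) :
    FlatMod.IsFinLocFree (((DCoh.tensorBi (X := X)).obj A).obj B) :=
  CohCmpLib.isFinLocFree_of_frames fun x => by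
    obtain ⟨U, n, a, hx, ha⟩ := exists_frame hA x
    obtain ⟨U', k, b, hx', hb⟩ := exists_frame hB x
    exact ⟨U ⊓ U', _, _, ⟨hx, hx'⟩, WedgeLib.isFrame_shT (ha.res inf_le_left) (hb.res inf_le_right)⟩

/-- The section `s` is killed by every map killing some map out of a finite locally free module. -/
def Good (U : X.Opens) (H : X.Modules) (s : Γ(H, U)) : Prop :=
  ∃ (Q : X.Modules) (β : Q ⟶ H), FlatMod.IsFinLocFree Q ∧
    ∀ {M' : X.Modules} (q : H ⟶ M'), β ≫ q = 0 → q.app U s = 0

/-- A chart for a cosection `σ` with locus `U`. -/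
structure Chart {E : X.Modules} (σ : E ⟶ Coh.structureModule X) (U : X.Opens) where
  V : X.Opens
  affine : IsAffineOpen V
  n : ℕ
  e : Fin n → Γ(E, V)
  frame : IsFrame E e
  basic_le : ∀ i, X.basicOpen (val σ (e i)) ≤ U
  le_basic : ∀ y ∈ U ⊓ V, ∃ i, y ∈ X.basicOpen (val σ (e i))

variable {E : X.Modules} {σ : E ⟶ Coh.structureModule X} {U : X.Opens}

theorem Chart.isCompact (c : Chart σ U) : IsCompact ((U ⊓ c.V : X.Opens) : Set X) := by
  have h : ((U ⊓ c.V : X.Opens) : Set X) = ⋃ i, (X.basicOpen (val σ (c.e i)) : Set X) := by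
    ext y
    refine ⟨fun hy => Set.mem_iUnion.mpr (c.le_basic y hy), fun hy => ?_⟩
    obtain ⟨i, hi⟩ := Set.mem_iUnion.mp hy
    exact ⟨c.basic_le i hi, X.basicOpen_le _ hi⟩
  rw [h]
  exact isCompact_iUnion fun i => (c.affine.basicOpen _).isCompact

theorem good_of_global {H : X.Modules} (s : Γ(H, U)) (t : Γ(H, ⊤)) (ht : res H le_top t = s) : Good U H s := by
  refine ⟨Coh.structureModule X, QCohLib.unitHom H t,
    AmpleDevLib.isFinLocFree_of_isInvertible CurvLib.isInvertible_structureModule, fun {M'} q hq => ?_⟩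
  have h1 := congr($(congrArg (fun φ => Scheme.Modules.Hom.app φ U) hq) (1 : Γ(X, U)))
  change q.app U ((QCohLib.unitHom H t).app U (1 : Γ(X, U))) = 0 at h1
  rw [QCohLib.unitHom_app, one_smul] at h1
  rw [← ht]
  exact h1

theorem good_of_mul (hE : FlatMod.IsFinLocFree E) (hc : ∀ y ∈ U, ∃ c : Chart σ U, y ∈ c.V) {H : X.Modules}
    (s : Γ(H, U)) (h : Good U (homMod E H) ((mul σ H).app U s)) : Good U H s := by
  obtain ⟨Q, β, hQ, hβ⟩ := h
  refine ⟨_, ((DCoh.tensorBi (X := X)).obj E).map β ≫ evMod E H, isFinLocFree_tens hE hQ, fun {M'} q hq => ?_⟩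
  have h1 : (curryMod (evMod E H ≫ q)).app U ((mul σ H).app U s) = 0 :=
    hβ _ (BoxSurjLib.comp_curry_eq_zero β q hq)
  refine section_ext _ _ fun y hy => ?_
  obtain ⟨c, hyc⟩ := hc y hy
  obtain ⟨i, hyi⟩ := c.le_basic y ⟨hy, hyc⟩
  let W : X.Opens := X.basicOpen (val σ (c.e i))
  have hWU : W ≤ U := c.basic_le i
  have hWV : W ≤ c.V := X.basicOpen_le _
  have h2 : (curryMod (evMod E H ≫ q)).app W ((mul σ H).app W (res H hWU s)) = 0 := by
    refine (congrArg ((curryMod (evMod E H ≫ q)).app W) (QCohLib.app_map (mul σ H) (homOfLE hWU) s)).trans ?_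
    refine (QCohLib.app_map (curryMod (evMod E H ≫ q)) (homOfLE hWU) ((mul σ H).app U s)).trans ?_
    rw [h1]
    exact map_zero _
  have h3 := BoxSurjLib.happ_eq_zero_of_curry q _ h2 (res E hWV (c.e i))
  rw [happ_mul, QCohLib.app_smul, ← val_res] at h3
  have hu : IsUnit (X.presheaf.map (homOfLE hWV).op (val σ (c.e i))) :=
    RingedSpace.isUnit_res_basicOpen _ (val σ (c.e i))
  have h4 : q.app W (res H hWU s) = 0 := hu.smul_eq_zero.mp h3
  rw [CohCmpLib.ger_zero, ← ger_res M' hWU y hyi (q.app U s),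
    show res M' hWU (q.app U s) = q.app W (res H hWU s) from (QCohLib.app_map q (homOfLE hWU) s).symm,
    h4, CohCmpLib.ger_zero]

theorem good_of_muN (hE : FlatMod.IsFinLocFree E) (hc : ∀ y ∈ U, ∃ c : Chart σ U, y ∈ c.V) :
    ∀ (n : ℕ) (H : X.Modules) (s : Γ(H, U)), Good U (Hn E n H) ((muN σ n H).app U s) → Good U H s
  | 0, _, _, h => h
  | n + 1, H, s, h => good_of_mul hE hc s (good_of_muN hE hc n _ _ h)

/-- A section over the locus of a cosection out of a finite locally free module is killed by every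
map killing a suitable map out of a finite locally free module. -/
theorem good [CompactSpace X] [QuasiSeparatedSpace X] (hE : FlatMod.IsFinLocFree E)
    (hc : ∀ y : X, ∃ c : Chart σ U, y ∈ c.V) (H : X.Modules) [Coh.IsQCoh H] (s : Γ(H, U)) : Good U H s := by
  classical
  choose c hyc using hc
  obtain ⟨S, hS⟩ := isCompact_univ.elim_finite_subcover (fun x => ((c x).V : Set X))
    (fun x => (c x).V.2) fun x _ => Set.mem_iUnion.mpr ⟨x, hyc x⟩
  have hcov : ∀ y : X, ∃ i : S, y ∈ (c i.1).V := fun y => by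
    obtain ⟨x, hx, hyx⟩ := Set.mem_iUnion₂.mp (hS (Set.mem_univ y))
    exact ⟨⟨x, hx⟩, hyx⟩
  choose N hN using fun i : S => exists_chart_extend σ (c i.1).frame (c i.1).affine (c i.1).isCompact
    (c i.1).basic_le s
  let N₀ := Finset.univ.sum N
  choose h hh using fun i : S => hN i N₀ (Finset.single_le_sum (fun j _ => Nat.zero_le (N j)) (Finset.mem_univ i))
  let H' := Hn E N₀ H
  let s' : Γ(H', U) := (muN σ N₀ H).app U s
  haveI : Coh.IsQCoh H' := isQCoh_Hn hE N₀ H ‹_›
  have hh' : ∀ i : S, res H' (inf_le_right : U ⊓ (c i.1).V ≤ (c i.1).V) (h i) = res H' inf_le_left s' := fun i =>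
    (hh i).trans (QCohLib.app_map (muN σ N₀ H) (homOfLE inf_le_left) s)
  let T : S × S → X.Opens := fun p => (c p.1.1).V ⊓ (c p.2.1).V
  let d : ∀ p : S × S, Γ(H', T p) := fun p => res H' inf_le_left (h p.1) - res H' inf_le_right (h p.2)
  have hd : ∀ p, res H' (inf_le_left : T p ⊓ U ≤ T p) (d p) = 0 := fun p => by
    have e1 := congrArg (res H' (le_inf (inf_le_right : T p ⊓ U ≤ U) (inf_le_left.trans inf_le_left))) (hh' p.1)
    have e2 := congrArg (res H' (le_inf (inf_le_right : T p ⊓ U ≤ U) (inf_le_left.trans inf_le_right))) (hh' p.2)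
    replace e1 := (AmpleLib.res_res (M := H') _ _ _).symm.trans (e1.trans (AmpleLib.res_res (M := H') _ _ _))
    replace e2 := (AmpleLib.res_res (M := H') _ _ _).symm.trans (e2.trans (AmpleLib.res_res (M := H') _ _ _))
    refine (map_sub _ _ _).trans (sub_eq_zero.mpr ?_)
    refine (AmpleLib.res_res (M := H') _ _ _).trans (e1.trans (e2.symm.trans ?_))
    exact (AmpleLib.res_res (M := H') _ _ _).symm
  choose L hL using fun p : S × S => exists_chart_kill σ (c p.1.1).frame (c p.1.1).basic_le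
    (inf_le_left : T p ≤ (c p.1.1).V)
    (QuasiSeparatedSpace.inter_isCompact (c p.1.1).V.1 (c p.2.1).V.1 (c p.1.1).V.2 (c p.1.1).affine.isCompact
      (c p.2.1).V.2 (c p.2.1).affine.isCompact) (d p) (hd p)
  let L₀ := Finset.univ.sum L
  let H'' := Hn E L₀ H'
  let F : TopCat.Sheaf AddCommGrpCat.{u} X.toTopCat := (QCohLib.toAbF X).obj H''
  let g : ∀ i : S, Γ(H'', (c i.1).V) := fun i => (muN σ L₀ H').app _ (h i)
  have hcomp : ∀ i j : S, res H'' (inf_le_left : (c i.1).V ⊓ (c j.1).V ≤ _) (g i) =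
      res H'' (inf_le_right : (c i.1).V ⊓ (c j.1).V ≤ _) (g j) := fun i j => by
    refine (QCohLib.app_map (muN σ L₀ H') _ (h i)).symm.trans (Eq.trans ?_ (QCohLib.app_map (muN σ L₀ H') _ (h j)))
    refine sub_eq_zero.mp ((map_sub _ _ _).symm.trans ?_)
    exact hL (i, j) L₀ (Finset.single_le_sum (fun q _ => Nat.zero_le (L q)) (Finset.mem_univ (i, j)))
  obtain ⟨G, hG, -⟩ := F.existsUnique_gluing' (fun i : S => (c i.1).V) ⊤ (fun i => homOfLE le_top)
    (fun y _ => Opens.mem_iSup.mpr (hcov y)) g hcomp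
  refine good_of_muN hE (fun y _ => ⟨c y, hyc y⟩) N₀ H s (good_of_muN hE (fun y _ => ⟨c y, hyc y⟩) L₀ H' s'
    (good_of_global _ G (section_ext _ _ fun y hy => ?_)))
  obtain ⟨i, hi⟩ := hcov y
  have e3 : res H'' (inf_le_right : U ⊓ (c i.1).V ≤ _) (g i) = res H'' inf_le_left ((muN σ L₀ H').app U s') :=
    (QCohLib.app_map (muN σ L₀ H') _ (h i)).symm.trans
      ((congrArg ((muN σ L₀ H').app _) (hh' i)).trans (QCohLib.app_map (muN σ L₀ H') _ s'))
  have e4 := congrArg (ger H'' y (U := U ⊓ (c i.1).V) ⟨hy, hi⟩) e3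
  rw [ger_res, ger_res] at e4
  rw [ger_res, ← e4, ← hG i]
  exact (ger_res H'' le_top y hi G).symm

end ResBdyLib
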