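import Groth.Agent.ResBdyLib.Crit
import Groth.Agent.LimHomLib.Descend
import Groth.Agent.LimLocFreeLib.Main
import Groth.Agent.FlatFunLimLib.Main
import Groth.Agent.PicH1Lib.FlatIdeal
import Groth.Agent.MiscFlat6.FTIdeal
import Groth.Agent.PerfLib.Restrict

/-!
# The resolution property along a limit with affine transition maps
-/

set_option autoImplicit false
set_option maxHeartbeats 1000000
set_option backward.isDefEq.respectTransparency false
set_option linter.all false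

noncomputable section

universe u

open CategoryTheory CategoryTheory.Limits AlgebraicGeometry TopologicalSpace Opposite
open LimHomLib (cmp)
open KFlatLib (pb puSec)

namespace ResBdyLib

theorem isFT_idealMod {X : Scheme.{u}} (J : X.IdealSheafData) (h : ∀ V : X.affineOpens, (J.ideal V).FG) :
    CohB1.IsFT (ClSub.idealMod J) := by
  haveI := SweepSix.ConormalSpec.isQCoh_idealMod J
  refine QCohLib.isFT_of_finite fun x => ?_
  obtain ⟨W, hW, hxW, -⟩ := exists_isAffineOpen_mem_and_subset (X := X) (x := x) (U := ⊤) trivial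
  refine ⟨W, hW, hxW, ?_⟩
  let L : Γ(ClSub.idealMod J, W) →ₗ[Γ(X, W)] Γ(X, W) :=
    { toFun := fun s => OmegaSh.fnSect X W ((ClSub.idealModι J).app W s)
      map_add' := fun a b => map_add ((ClSub.idealModι J).app W).hom a b
      map_smul' := fun r s => QCohLib.app_smul (ClSub.idealModι J) W r s }
  have hr : LinearMap.range L = J.ideal ⟨W, hW⟩ := by
    ext y
    exact ⟨fun ⟨s, hs⟩ => hs ▸ GenFlatStrat.idealModι_mem J ⟨W, hW⟩ s,
      fun hy => GenFlatStrat.exists_idealMod_section J ⟨W, hW⟩ y hy⟩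
  haveI : Module.Finite Γ(X, W) (LinearMap.range L) := Module.Finite.iff_fg.mpr (hr ▸ h ⟨W, hW⟩)
  have hinj : Function.Injective L := fun a b hab => PicH1Lib.idVal_injective J W hab
  exact Module.Finite.equiv (LinearEquiv.ofInjective L hinj).symm

/-- The pullback of an ideal covers the ideal of the pullback. -/
theorem exists_epi_comap {S T : Scheme.{u}} (f : T ⟶ S) (K : S.IdealSheafData) :
    ∃ g : pb f (ClSub.idealMod K) ⟶ ClSub.idealMod (K.comap f), Epi g := by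
  refine ⟨PicH1Lib.toComap f K, QCohLib.epi_of_surjective_on_affines _ fun V s p hp => ?_⟩
  obtain ⟨W, hW, hpW, -⟩ := exists_isAffineOpen_mem_and_subset (X := S) (x := f p) (U := ⊤) trivial
  obtain ⟨U, hU, hpU, hUV⟩ := exists_isAffineOpen_mem_and_subset (U := V ⊓ f ⁻¹ᵁ W) (x := p) ⟨hp, hpW⟩
  have hle : U ≤ f ⁻¹ᵁ W := hUV.trans inf_le_right
  refine ⟨U, hUV.trans inf_le_left, hpU, ?_⟩
  let J := K.comap f
  let s' := AmpleLib.res (ClSub.idealMod J) (hUV.trans inf_le_left) s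
  let b : Γ(T, U) := PicH1Lib.idVal J s'
  have hb : b ∈ J.ideal ⟨U, hU⟩ := GenFlatStrat.idealModι_mem J ⟨U, hU⟩ s'
  rw [Groth.Agent.S4666.ideal_comap_eq K f ⟨W, hW⟩ ⟨U, hU⟩ hle] at hb
  suffices h : ∃ t, (PicH1Lib.pullIdeal f K).app U t = b by
    obtain ⟨t, ht⟩ := h
    refine ⟨t, PicH1Lib.idVal_injective J U ?_⟩
    rw [PicH1Lib.idVal, ← ConcreteCategory.comp_apply, ← Scheme.Modules.Hom.comp_app, PicH1Lib.toComap_ι]
    exact ht
  refine Submodule.span_induction (p := fun y _ => ∃ t, (PicH1Lib.pullIdeal f K).app U t = y) ?_ ?_ ?_ ?_ hb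
  · intro y hy
    obtain ⟨a, ha, rfl⟩ := hy
    obtain ⟨m, hm⟩ := GenFlatStrat.exists_idealMod_section K ⟨W, hW⟩ a ha
    refine ⟨AmpleLib.res _ hle (puSec f m), ?_⟩
    rw [show a = PicH1Lib.idVal K m from hm.symm]
    exact (QCohLib.app_map (PicH1Lib.pullIdeal f K) (homOfLE hle) (puSec f m)).trans
      (congrArg (T.presheaf.map (homOfLE hle).op) (PicH1Lib.pullIdeal_puSec f K m))
  · exact ⟨0, map_zero _⟩
  · intro y z _ _ hy hz
    obtain ⟨t, rfl⟩ := hy
    obtain ⟨t', rfl⟩ := hz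
    exact ⟨t + t', map_add _ _ _⟩
  · intro r y _ hy
    obtain ⟨t, rfl⟩ := hy
    exact ⟨(r : Γ(T, U)) • t, QCohLib.app_smul _ _ _ _⟩

/-- `N` pulled back along `f` is a quotient of a finite locally free module. -/
def Covered {S T : Scheme.{u}} (f : T ⟶ S) (N : S.Modules) : Prop :=
  ∃ (E : T.Modules) (q : E ⟶ pb f N), FlatMod.IsFinLocFree E ∧ Epi q

theorem epi_pb_map {S T : Scheme.{u}} (g : T ⟶ S) {A B : S.Modules} (u : A ⟶ B) [Epi u] :
    Epi ((Scheme.Modules.pullback g).map u) := by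
  haveI := (Scheme.Modules.pullbackPushforwardAdjunction g).leftAdjoint_preservesColimits
  infer_instance

theorem Covered.comp {R S T : Scheme.{u}} {f : T ⟶ S} {N : S.Modules} (g : R ⟶ T) {h : R ⟶ S} (e : g ≫ f = h)
    (hc : Covered f N) : Covered h N := by
  obtain ⟨E, q, hE, hq⟩ := hc
  haveI := epi_pb_map g q
  exact ⟨pb g E, (Scheme.Modules.pullback g).map q ≫ (cmp e).hom.app N, KFlatLib.isFinLocFree_pull g hE,
    epi_comp _ _⟩

theorem Covered.epi {S T : Scheme.{u}} {f : T ⟶ S} {N N' : S.Modules} (u : N ⟶ N') [Epi u] (hc : Covered f N) :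
    Covered f N' := by
  obtain ⟨E, q, hE, hq⟩ := hc
  haveI := epi_pb_map f u
  exact ⟨E, q ≫ (Scheme.Modules.pullback f).map u, hE, epi_comp _ _⟩

variable {I : Type u} [SmallCategory I] [IsCofiltered I] {D : I ⥤ Scheme.{u}} {c : Cone D} (hc : IsLimit c)
  [∀ (i j : I) (f : i ⟶ j), IsAffineHom (D.map f)] [∀ i, CompactSpace (D.obj i)]
  [∀ i, QuasiSeparatedSpace (D.obj i)]

include hc in
/-- A finitely presented module covered on the limit is covered at a stage. -/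
theorem exists_stage_covered {i₀ : I} (P : (D.obj i₀).Modules) [Coh.IsQCoh P] (hP : CohB1.IsFP P)
    (h : Covered (c.π.app i₀) P) : ∃ φ : Over i₀, Covered (D.map φ.hom) P := by
  obtain ⟨E, p, hE, hp⟩ := h
  haveI := hp
  haveI : Coh.IsQCoh E := (Groth.Agent.PerfLib.isCoh_of_isFinLocFree hE).1
  obtain ⟨φ₁, E₁, hE₁q, hE₁, ⟨e⟩⟩ := LimHomLib.exists_descend hc (i₀ := i₀) E (MiscFlat6.isFlat_and_isFP_iff.mpr hE).2
  haveI := hE₁q
  let i₁ := φ₁.left
  haveI := KFlatLib.isQCoh_pullback (D.map φ₁.hom) P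
  let P₁ := pb (D.map φ₁.hom) P
  have hP₁ : CohB1.IsFP P₁ := RichLib.ModFlat.isFP_pullback _ hP
  let f : pb (c.π.app i₁) E₁ ⟶ pb (c.π.app i₁) P₁ := e.hom ≫ p ≫ ((cmp (c.w φ₁.hom)).app P).inv
  haveI : Epi f := inferInstanceAs (Epi (e.hom ≫ p ≫ ((cmp (c.w φ₁.hom)).app P).inv))
  obtain ⟨φ₂, hj, hhj⟩ := LimHomLib.exists_hom hc E₁ P₁ hE₁ f
  let i₂ := φ₂.left
  haveI := KFlatLib.isQCoh_pullback (D.map φ₂.hom) E₁
  haveI := KFlatLib.isQCoh_pullback (D.map φ₂.hom) P₁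
  have hepi : Epi ((Scheme.Modules.pullback (c.π.app i₂)).map hj) := by
    have e3 : (Scheme.Modules.pullback (c.π.app i₂)).map hj =
        ((cmp (c.w φ₂.hom)).app E₁).hom ≫ f ≫ ((cmp (c.w φ₂.hom)).app P₁).inv := by
      rw [← hhj]
      simp only [Category.assoc, Iso.hom_inv_id_assoc, Iso.hom_inv_id, Category.comp_id]
      exact (Category.comp_id _).symm
    rw [e3]
    infer_instance
  obtain ⟨φ₃, h₃⟩ := FlatFunLimLib.exists_stage_epi hj
    (FlatFunLimLib.isFT_of_isFP' (RichLib.ModFlat.isFP_pullback _ hP₁)) (RichLib.LimBC.ofStage D c hc i₂) hepi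
  let i₃ := φ₃.left
  let E₃ := pb (D.map φ₃.hom) (pb (D.map φ₂.hom) E₁)
  haveI : Coh.IsQCoh E₃ := KFlatLib.isQCoh_pullback _ _
  have hE₃ : CohB1.IsFP E₃ := RichLib.ModFlat.isFP_pullback _ (RichLib.ModFlat.isFP_pullback _ hE₁)
  have hlf : FlatMod.IsFinLocFree (pb (c.π.app i₃) E₃) := by
    let e₃ : pb (c.π.app i₃) E₃ ≅ pb (c.π.app i₁) E₁ :=
      (cmp (c.w φ₃.hom)).app (pb (D.map φ₂.hom) E₁) ≪≫ (cmp (c.w φ₂.hom)).app E₁
    exact Groth.Agent.PerfLib.isFinLocFree_of_iso (e₃ ≪≫ e).symm hE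
  obtain ⟨j, φ₄, hg⟩ := (LimLocFreeLib.good_iff D c hc i₃ (fun _ => True) E₃ hE₃).1
    ((LimLocFreeLib.isFinLocFree_iff E₃ (c.π.app i₃)).1 hlf)
  haveI : Epi ((Scheme.Modules.pullback (D.map φ₃.hom)).map hj) := h₃
  haveI := epi_pb_map (D.map φ₄) ((Scheme.Modules.pullback (D.map φ₃.hom)).map hj)
  let ψ : j ⟶ i₀ := φ₄ ≫ φ₃.hom ≫ φ₂.hom ≫ φ₁.hom
  have e₁ : D.map φ₂.hom ≫ D.map φ₁.hom = D.map (φ₂.hom ≫ φ₁.hom) := (D.map_comp _ _).symm
  have e₂ : D.map φ₃.hom ≫ D.map (φ₂.hom ≫ φ₁.hom) = D.map (φ₃.hom ≫ φ₂.hom ≫ φ₁.hom) := (D.map_comp _ _).symm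
  have e₄ : D.map φ₄ ≫ D.map (φ₃.hom ≫ φ₂.hom ≫ φ₁.hom) = D.map ψ := (D.map_comp _ _).symm
  refine ⟨Over.mk ψ, pb (D.map φ₄) E₃, (Scheme.Modules.pullback (D.map φ₄)).map
    ((Scheme.Modules.pullback (D.map φ₃.hom)).map hj) ≫ (Scheme.Modules.pullback (D.map φ₄)).map
    (((Scheme.Modules.pullback (D.map φ₃.hom)).mapIso ((cmp e₁).app P)).hom ≫ ((cmp e₂).app P).hom) ≫
      ((cmp e₄).app P).hom, (LimLocFreeLib.isFinLocFree_iff E₃ (D.map φ₄)).2 hg, ?_⟩
  infer_instance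

include hc in
/-- The resolution property descends to a stage. -/
theorem exists_stage_resolutionProperty (h : PerfAux.HasResolutionProperty c.pt) :
    ∃ i : I, PerfAux.HasResolutionProperty (D.obj i) := by
  classical
  obtain ⟨i₀⟩ := IsCofiltered.nonempty (C := I)
  choose W hW hxW hWle using fun x : D.obj i₀ =>
    exists_isAffineOpen_mem_and_subset (X := D.obj i₀) (x := x) (U := ⊤) trivial
  obtain ⟨cov, hcov⟩ := isCompact_univ.elim_finite_subcover (fun x => (W x : Set (D.obj i₀)))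
    (fun x => (W x).2) fun x _ => Set.mem_iUnion.mpr ⟨x, hxW x⟩
  choose K hKfg hKsupp using fun k : cov => MiscFlat6.exists_finiteType_idealSheaf (W k.1) (hW k.1).isCompact
  obtain ⟨φ, hφ⟩ := RichLib.LimBC.exists_stage (I := Over i₀) (ι := cov)
    (fun k φ => Covered (D.map φ.hom) (ClSub.idealMod (K k)))
    (fun k φ ψ a hc' => hc'.comp (D.map (Over.Hom.left a)) ((D.map_comp _ _).symm.trans (congrArg D.map (Over.w a))))
    fun k => by
      haveI := SweepSix.ConormalSpec.isQCoh_idealMod (K k)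
      obtain ⟨P, hPq, q, hP, hq⟩ := LimHomLib.exists_fp_epi (ClSub.idealMod (K k)) (isFT_idealMod _ (hKfg k))
      haveI := hPq
      haveI := hq
      haveI := KFlatLib.isQCoh_pullback (c.π.app i₀) P
      obtain ⟨E, p, hE, hp⟩ := h (pb (c.π.app i₀) P) inferInstance
        (ConsLib.isFT_pullback _ _ (FlatFunLimLib.isFT_of_isFP' hP))
      obtain ⟨φ, hφ⟩ := exists_stage_covered hc P hP ⟨E, p, hE, hp⟩
      exact ⟨φ, hφ.epi q⟩
  refine ⟨φ.left, hasResolutionProperty_of_cover (ι := cov) (fun k => D.map φ.hom ⁻¹ᵁ W k.1)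
    (fun k => (hW k.1).preimage _) ?_ (fun k => (K k).comap (D.map φ.hom)) (fun k => ?_) fun k => ?_⟩
  · refine eq_top_iff.mpr fun y _ => Opens.mem_iSup.mpr ?_
    obtain ⟨x, hx, hyx⟩ := Set.mem_iUnion₂.mp (hcov (Set.mem_univ (D.map φ.hom y)))
    exact ⟨⟨x, hx⟩, hyx⟩
  · rw [Scheme.IdealSheafData.support_comap]
    show (D.map φ.hom) ⁻¹' ((K k).support : Set (D.obj i₀)) = _
    rw [hKsupp k]
    rfl
  · obtain ⟨E, q, hE, hq⟩ := hφ k
    obtain ⟨g, hg⟩ := exists_epi_comap (D.map φ.hom) (K k)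
    exact ⟨E, q ≫ g, hE, epi_comp _ _⟩

include hc in
/-- The resolution property goes up along the limit. -/
theorem hasResolutionProperty_limit {i : I} (h : PerfAux.HasResolutionProperty (D.obj i)) :
    PerfAux.HasResolutionProperty c.pt := by
  intro M hM hFT
  haveI := hM
  haveI : IsAffineHom (c.π.app i) := isAffineHom_π_app D c hc i
  obtain ⟨G, hGq, e, hG, he⟩ := LimHomLib.exists_ft_epi_pullback (c.π.app i) M hFT
  obtain ⟨E, p, hE, hp⟩ := h G hGq hG
  haveI := epi_pb_map (c.π.app i) p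
  exact ⟨pb (c.π.app i) E, (Scheme.Modules.pullback (c.π.app i)).map p ≫ e, KFlatLib.isFinLocFree_pull _ hE,
    epi_comp _ _⟩

end ResBdyLib
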