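import Groth.Agent.CohCmpLib.HomFrame
import Groth.Agent.BoxSurjLib.Cut
import Groth.Agent.QCohLib.QcqsSections
import Groth.Agent.WedgeLib.FiltTools
import Mathlib.RingTheory.Noetherian.Basic

/-!
# Multiplication by a cosection, and extension of sections from its locus

For `σ : E ⟶ O_X` there is the map `mul : H ⟶ Hom(E, H)`, `t ↦ (a ↦ σ(a) t)`; its iterates `muN`
kill the sections killed by the products of the values of `σ` on a frame, and make extendible the
sections which become extendible after multiplication by these products.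
-/

set_option autoImplicit false
set_option maxRecDepth 8000
set_option backward.isDefEq.respectTransparency false
set_option backward.isDefEq.respectTransparency.types false
set_option linter.all false

noncomputable section

universe u

open CategoryTheory CategoryTheory.Limits AlgebraicGeometry TopologicalSpace Opposite
open ProjFormLib (ger res ger_res ger_smul ger_add ger_map exists_ger section_ext IsFrame exists_frame)
open CohCmpLib (homMod hVal happ ger_happ hVal_res homMod_ext evMod curryMod evS evS_ger)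
open KFlatLib (tens shTm)

namespace ResBdyLib

variable {X : Scheme.{u}} {E : X.Modules} (σ : E ⟶ Coh.structureModule X)

/-- The value of `σ` on a section, as a function. -/
def val {V : X.Opens} (a : Γ(E, V)) : Γ(X, V) := σ.app V a

theorem val_res {V W : X.Opens} (h : W ≤ V) (a : Γ(E, V)) :
    X.presheaf.map (homOfLE h).op (val σ a) = val σ (res E h a) :=
  (QCohLib.app_map σ (homOfLE h) a).symm

theorem exists_pair (H : X.Modules) : ∃ ψ : tens E H ⟶ H,
    ∀ (V : X.Opens) (m : Γ(E, V)) (h : Γ(H, V)), ψ.app V (shTm m h) = val σ m • h := by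
  refine GrTildeLib.exists_tens_hom (N := H) (fun V m h => val σ m • h) ?_ ?_ ?_ ?_ ?_
  · intro V m m' h
    exact (congrArg (fun x : Γ(X, V) => x • h) (map_add (σ.app V).hom m m')).trans (add_smul (val σ m) (val σ m') h)
  · intro V m h h'
    exact smul_add _ _ _
  · intro V r m h
    exact (congrArg (fun x : Γ(X, V) => x • h) (QCohLib.app_smul σ V r m)).trans (mul_smul r (val σ m) h)
  · intro V r m h
    exact smul_comm _ _ _
  · intro V W hVW m h
    exact (Scheme.Modules.map_smul _ _ _ _).trans (congrArg (· • res H hVW h) (val_res σ hVW m))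

/-- Multiplication by `σ`. -/
def mul (H : X.Modules) : H ⟶ homMod E H := curryMod (exists_pair σ H).choose

theorem hVal_mul {H : X.Modules} {V : X.Opens} (t : Γ(H, V)) (a : Γ(E, V)) (y : X) (hy : y ∈ V) :
    hVal ((mul σ H).app V t) y hy (ger E y hy a) = ger H y hy (val σ a • t) := by
  rw [mul, CohCmpLib.hVal_curryMod, evS_ger, (exists_pair σ H).choose_spec]

theorem happ_mul {H : X.Modules} {V : X.Opens} (t : Γ(H, V)) (a : Γ(E, V)) :
    happ ((mul σ H).app V t) a = val σ a • t :=
  section_ext _ _ fun y hy => (ger_happ _ _ y hy).trans (hVal_mul σ t a y hy)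

variable {r : ℕ} {V : X.Opens} {e : Fin r → Γ(E, V)}

theorem hVal_mul_frame {H : X.Modules} {T : X.Opens} (hT : T ≤ V) (t : Γ(H, T)) (i : Fin r) (y : X) (hy : y ∈ T) :
    hVal ((mul σ H).app T t) y hy (ger E y (hT hy) (e i)) =
      ger H y hy (X.presheaf.map (homOfLE hT).op (val σ (e i)) • t) := by
  rw [val_res, ← hVal_mul σ t (res E hT (e i)) y hy, ger_res]

theorem mul_eq_zero (he : IsFrame E e) {H : X.Modules} {T : X.Opens} (hT : T ≤ V) (t : Γ(H, T))
    (ht : ∀ i, X.presheaf.map (homOfLE hT).op (val σ (e i)) • t = 0) : (mul σ H).app T t = 0 := by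
  refine homMod_ext fun y hy => (he.basis y (hT hy)).ext fun i => ?_
  rw [IsFrame.basis_apply, hVal_mul_frame σ hT, ht, CohCmpLib.ger_zero]
  rfl

theorem exists_mul_extend (he : IsFrame E e) {H : X.Modules} {T : X.Opens} (hT : T ≤ V) (t : Γ(H, T))
    (ht : ∀ i, ∃ p : Γ(H, V), res H hT p = X.presheaf.map (homOfLE hT).op (val σ (e i)) • t) :
    ∃ h : Γ(homMod E H, V), res (homMod E H) hT h = (mul σ H).app T t := by
  choose p hp using ht
  obtain ⟨h, hh⟩ := CohCmpLib.exists_hom_of_frame he (le_refl V) p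
  refine ⟨h, homMod_ext fun y hy => (he.basis y (hT hy)).ext fun i => ?_⟩
  rw [IsFrame.basis_apply, hVal_res, hVal_mul_frame σ hT, ← hp, ger_res]
  exact hh y (hT hy) i

/-- The iterated sheaves of homomorphisms out of `E`. -/
def Hn (E : X.Modules) : ℕ → X.Modules → X.Modules
  | 0, H => H
  | n + 1, H => Hn E n (homMod E H)

/-- The iterated multiplication by `σ`. -/
def muN : ∀ (n : ℕ) (H : X.Modules), H ⟶ Hn E n H
  | 0, H => 𝟙 H
  | n + 1, H => mul σ H ≫ muN n (homMod E H)

theorem isQCoh_Hn (hE : FlatMod.IsFinLocFree E) :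
    ∀ (n : ℕ) (H : X.Modules), Coh.IsQCoh H → Coh.IsQCoh (Hn E n H)
  | 0, _, h => h
  | n + 1, _, h => isQCoh_Hn hE n _ (haveI := h; BoxSurjLib.isQCoh_homMod hE)

/-- The ideal of values of `σ` on the frame. -/
def valIdeal (e : Fin r → Γ(E, V)) : Ideal Γ(X, V) := Ideal.span (Set.range fun i => val σ (e i))

theorem muN_eq_zero (he : IsFrame E e) : ∀ (n : ℕ) (H : X.Modules) (T : X.Opens) (hT : T ≤ V) (t : Γ(H, T)),
    (∀ c ∈ valIdeal σ e ^ n, X.presheaf.map (homOfLE hT).op c • t = 0) → (muN σ n H).app T t = 0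
  | 0, H, T, hT, t, h => by
    have h1 := h 1 (by rw [pow_zero, Ideal.one_eq_top]; trivial)
    rw [map_one, one_smul] at h1
    exact h1
  | n + 1, H, T, hT, t, h => by
    change (muN σ n (homMod E H)).app T ((mul σ H).app T t) = 0
    refine muN_eq_zero he n _ T hT _ fun c hc => ?_
    rw [← QCohLib.app_smul]
    refine mul_eq_zero σ he hT _ fun i => ?_
    rw [smul_smul, ← map_mul]
    refine h _ ?_
    rw [pow_succ']
    exact Ideal.mul_mem_mul (Ideal.subset_span ⟨i, rfl⟩) hc

theorem exists_muN_extend (he : IsFrame E e) :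
    ∀ (n : ℕ) (H : X.Modules) (T : X.Opens) (hT : T ≤ V) (t : Γ(H, T)),
      (∀ c ∈ valIdeal σ e ^ n, ∃ p : Γ(H, V), res H hT p = X.presheaf.map (homOfLE hT).op c • t) →
      ∃ h : Γ(Hn E n H, V), res (Hn E n H) hT h = (muN σ n H).app T t
  | 0, H, T, hT, t, h => by
    obtain ⟨p, hp⟩ := h 1 (by rw [pow_zero, Ideal.one_eq_top]; trivial)
    rw [map_one, one_smul] at hp
    exact ⟨p, hp⟩
  | n + 1, H, T, hT, t, h => by
    refine exists_muN_extend he n _ T hT ((mul σ H).app T t) fun c hc => ?_
    rw [← QCohLib.app_smul]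
    refine exists_mul_extend σ he hT _ fun i => ?_
    obtain ⟨p, hp⟩ := h (val σ (e i) * c) (by
      rw [pow_succ']
      exact Ideal.mul_mem_mul (Ideal.subset_span ⟨i, rfl⟩) hc)
    exact ⟨p, by rw [hp, map_mul, mul_smul]⟩

/-- The ideal of the functions `c` for which `c t` extends. -/
def extIdeal {H : X.Modules} {T : X.Opens} (hT : T ≤ V) (t : Γ(H, T)) : Ideal Γ(X, V) where
  carrier := {c | ∃ p : Γ(H, V), res H hT p = X.presheaf.map (homOfLE hT).op c • t}
  zero_mem' := ⟨0, by rw [map_zero, zero_smul]; exact map_zero _⟩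
  add_mem' := fun {a b} ⟨p, hp⟩ ⟨q, hq⟩ => ⟨p + q, by
    rw [map_add, add_smul, ← hp, ← hq]; exact map_add _ _ _⟩
  smul_mem' := fun c a ⟨p, hp⟩ => ⟨c • p, by
    rw [smul_eq_mul, map_mul, mul_smul, ← hp]; exact Scheme.Modules.map_smul _ _ _ _⟩

/-- The ideal of the functions `c` killing `t`. -/
def killIdeal {H : X.Modules} {T : X.Opens} (hT : T ≤ V) (t : Γ(H, T)) : Ideal Γ(X, V) where
  carrier := {c | X.presheaf.map (homOfLE hT).op c • t = 0}
  zero_mem' := by rw [Set.mem_setOf_eq, map_zero, zero_smul]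
  add_mem' := fun {a b} ha hb => by
    rw [Set.mem_setOf_eq] at ha hb ⊢
    rw [map_add, add_smul, ha, hb, add_zero]
  smul_mem' := fun c a ha => by
    rw [Set.mem_setOf_eq] at ha ⊢
    rw [smul_eq_mul, map_mul, mul_smul, ha, smul_zero]

theorem exists_pow_le (J : Ideal Γ(X, V)) (h : ∀ i, ∃ m, val σ (e i) ^ m ∈ J) :
    ∃ N, valIdeal σ e ^ N ≤ J := by
  classical
  refine Ideal.exists_pow_le_of_le_radical_of_fg ?_ ⟨Finset.univ.image fun i => val σ (e i), ?_⟩
  · refine Ideal.span_le.mpr ?_
    rintro _ ⟨i, rfl⟩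
    exact h i
  · rw [Finset.coe_image, Finset.coe_univ, Set.image_univ]
    rfl

variable {U : X.Opens}

/-- On an affine chart, a high iterate of `σ` makes a section over the locus of `σ` extend. -/
theorem exists_chart_extend (he : IsFrame E e) (hV : IsAffineOpen V) (hcpt : IsCompact ((U ⊓ V : X.Opens) : Set X))
    (hU : ∀ i, X.basicOpen (val σ (e i)) ≤ U) {H : X.Modules} [Coh.IsQCoh H] (s : Γ(H, U)) :
    ∃ N, ∀ n, N ≤ n → ∃ h : Γ(Hn E n H, V),
      res (Hn E n H) (inf_le_right : U ⊓ V ≤ V) h = (muN σ n H).app (U ⊓ V) (res H inf_le_left s) := by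
  let T : X.Opens := U ⊓ V
  let t : Γ(H, T) := res H inf_le_left s
  obtain ⟨N, hN⟩ := exists_pow_le σ (extIdeal (inf_le_right : T ≤ V) t) fun i => by
    let g := val σ (e i)
    obtain ⟨k, b, hb⟩ := (QCohLib.localizingAt_of_qcqs H hV.isCompact hV.isQuasiSeparated g).exists_extend
      (res H (hU i) s)
    let g' : Γ(X, T) := X.presheaf.map (homOfLE (inf_le_right : T ≤ V)).op g
    let d : Γ(H, T) := res H inf_le_right b - g' ^ k • t
    have hd : res H (inf_le_left : T ⊓ X.basicOpen g ≤ T) d = 0 := by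
      have h1 := congrArg (res H (inf_le_right : T ⊓ X.basicOpen g ≤ X.basicOpen g)) hb
      simp only [res, Scheme.Modules.map_smul, map_pow, QCohLib.map_map',
        QCohLib.ringMap_map', homOfLE_comp] at h1
      refine (map_sub _ _ _).trans (sub_eq_zero.mpr ?_)
      refine (QCohLib.map_map' (M := H) _ _ b).trans (h1.trans ?_)
      refine Eq.trans ?_ (Scheme.Modules.map_smul _ _ _ _).symm
      refine congrArg₂ (· • ·) ?_ (QCohLib.map_map' (M := H) _ _ s).symm
      rw [map_pow]
      exact congrArg (· ^ k) (QCohLib.ringMap_map' (X := X) _ _ g).symm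
    obtain ⟨l, hl⟩ := QCohLib.exists_pow_smul_eq_zero g T hcpt inf_le_right d hd
    refine ⟨l + k, g ^ l • b, ?_⟩
    change g' ^ l • (res H inf_le_right b - g' ^ k • t) = 0 at hl
    rw [smul_sub, sub_eq_zero, smul_smul, ← pow_add] at hl
    refine (Scheme.Modules.map_smul _ _ _ _).trans ?_
    rw [map_pow, map_pow]
    exact hl
  exact ⟨N, fun n hn => exists_muN_extend σ he n H T inf_le_right t fun c hc =>
    hN (Ideal.pow_le_pow_right hn hc)⟩

/-- On an affine chart, a section vanishing on the locus of `σ` is killed by a high iterate of `σ`. -/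
theorem exists_chart_kill (he : IsFrame E e) (hU : ∀ i, X.basicOpen (val σ (e i)) ≤ U) {H : X.Modules}
    [Coh.IsQCoh H] {T : X.Opens} (hT : T ≤ V) (hcpt : IsCompact (T : Set X)) (t : Γ(H, T))
    (ht : res H (inf_le_left : T ⊓ U ≤ T) t = 0) :
    ∃ N, ∀ n, N ≤ n → (muN σ n H).app T t = 0 := by
  obtain ⟨N, hN⟩ := exists_pow_le σ (killIdeal hT t) fun i => by
    have h0 : res H (inf_le_left : T ⊓ X.basicOpen (val σ (e i)) ≤ T) t = 0 := by
      have h1 := congrArg (res H (inf_le_inf_left T (hU i))) ht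
      simpa only [res, map_zero, QCohLib.map_map', homOfLE_comp] using h1
    obtain ⟨l, hl⟩ := QCohLib.exists_pow_smul_eq_zero (val σ (e i)) T hcpt hT t h0
    refine ⟨l, ?_⟩
    change X.presheaf.map (homOfLE hT).op (val σ (e i) ^ l) • t = 0
    rw [map_pow]
    exact hl
  exact ⟨N, fun n hn => muN_eq_zero σ he n H T hT t fun c hc => hN (Ideal.pow_le_pow_right hn hc)⟩

end ResBdyLib
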